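import Groth.Agent.H06GrStrat.Piece

/-!
# Stratification with flat graded pieces
-/

set_option autoImplicit false
set_option linter.style.haveILetI false
universe u

open TensorProduct CategoryTheory AlgebraicGeometry TopologicalSpace

namespace Groth.Agent.H06GrStrat

/-- Stratifications of closed subsets by affine subschemes with flat graded pieces. -/
theorem exists_strat {A₀ : Type u} [CommRing A₀] [IsNoetherianRing A₀]
    {B₀ : Type u} [CommRing B₀] [Algebra A₀ B₀] [Algebra.FiniteType A₀ B₀] (J₀ : Ideal B₀)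
    (M₀ : Type u) [AddCommGroup M₀] [Module B₀ M₀] [Module A₀ M₀] [IsScalarTower A₀ B₀ M₀]
    [Module.Finite B₀ M₀] (Z : Closeds (PrimeSpectrum A₀)) :
    ∃ (m : ℕ) (A : Fin m → Type u) (_ : ∀ i, CommRing (A i)) (_ : ∀ i, Algebra A₀ (A i)),
      (∀ i, IsImmersion (Spec.map (CommRingCat.ofHom (algebraMap A₀ (A i))))) ∧
      (∀ i j, i ≠ j → Disjoint (Set.range (PrimeSpectrum.comap (algebraMap A₀ (A i))))
        (Set.range (PrimeSpectrum.comap (algebraMap A₀ (A j))))) ∧
      (⋃ i, Set.range (PrimeSpectrum.comap (algebraMap A₀ (A i)))) = (Z : Set (PrimeSpectrum A₀)) ∧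
      (∀ i, ∃ U : Set (PrimeSpectrum A₀), IsOpen U ∧
        U ∩ (⋃ j, ⋃ (_ : i ≤ j), Set.range (PrimeSpectrum.comap (algebraMap A₀ (A j)))) =
          Set.range (PrimeSpectrum.comap (algebraMap A₀ (A i)))) ∧
      ∀ i (n : ℕ), Module.Flat (A i)
        ↥(Submodule.map
            (LinearMap.range (LinearMap.baseChange (A i)
              ((J₀ ^ (n + 1) • (⊤ : Submodule B₀ M₀)).restrictScalars A₀).subtype)).mkQ
            (LinearMap.range (LinearMap.baseChange (A i)
              ((J₀ ^ n • (⊤ : Submodule B₀ M₀)).restrictScalars A₀).subtype))) := by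
  classical
  induction Z using WellFoundedLT.induction with
  | ind Z ih =>
    by_cases hZ : (Z : Set (PrimeSpectrum A₀)) = ∅
    · exact ⟨0, fun i => i.elim0, fun i => i.elim0, fun i => i.elim0, fun i => i.elim0, fun i => i.elim0,
        by rw [hZ]; exact Set.iUnion_of_empty _, fun i => i.elim0, fun i => i.elim0⟩
    obtain ⟨I, hI⟩ := (PrimeSpectrum.isClosed_iff_zeroLocus_ideal (Z : Set (PrimeSpectrum A₀))).1 Z.isClosed
    obtain ⟨x, hx⟩ := Set.nonempty_iff_ne_empty.2 hZ
    have hIx : I ≤ x.asIdeal := by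
      have h : x ∈ PrimeSpectrum.zeroLocus (I : Set A₀) := hI ▸ hx
      exact h
    obtain ⟨p, hp, hpx⟩ := Ideal.exists_minimalPrimes_le hIx
    haveI : p.IsPrime := hp.1.1
    let s := (I.finite_minimalPrimes_of_isNoetherianRing A₀).toFinset.erase p
    have hg₁ : ∃ g₁ : A₀, g₁ ∉ p ∧ ∀ q ∈ s, g₁ ∈ q := by
      have h : ¬ s.inf id ≤ p := by
        rw [Ideal.IsPrime.inf_le' hp.1.1]
        rintro ⟨q, hq, hqp⟩
        obtain ⟨hne, hqmin⟩ := Finset.mem_erase.1 hq
        rw [Set.Finite.mem_toFinset] at hqmin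
        exact hne (le_antisymm hqp (hp.2 hqmin.1 hqp))
      obtain ⟨g₁, h1, h2⟩ := SetLike.not_le_iff_exists.1 h
      exact ⟨g₁, h2, fun q hq => Finset.inf_le (f := id) hq h1⟩
    obtain ⟨g₁, hg₁p, hg₁⟩ := hg₁
    obtain ⟨f₀, hf₀, hflat⟩ := exists_flat_pieces p J₀ M₀
    let g := g₁ * f₀
    have hg : g ∉ p := fun h => (hp.1.1.mem_or_mem h).elim hg₁p hf₀
    let L := Localization.Away (Ideal.Quotient.mk p g)
    have hrange : Set.range (PrimeSpectrum.comap (algebraMap A₀ L)) =
        (PrimeSpectrum.basicOpen g : Set (PrimeSpectrum A₀)) ∩ Z := by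
      rw [IsScalarTower.algebraMap_eq A₀ (A₀ ⧸ p) L, PrimeSpectrum.comap_comp, Set.range_comp,
        PrimeSpectrum.localization_away_comap_range L (Ideal.Quotient.mk p g), hI]
      ext y
      constructor
      · rintro ⟨z, hz, rfl⟩
        refine ⟨hz, fun a ha => ?_⟩
        show Ideal.Quotient.mk p a ∈ z.asIdeal
        rw [Ideal.Quotient.eq_zero_iff_mem.2 (hp.1.2 ha)]
        exact zero_mem _
      · rintro ⟨hyg, hyI⟩
        have hy : y ∈ PrimeSpectrum.zeroLocus (p : Set A₀) := by
          obtain ⟨q, hq, hqy⟩ := Ideal.exists_minimalPrimes_le (show I ≤ y.asIdeal from hyI)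
          by_cases hqp : q = p
          · exact hqp ▸ hqy
          · exact absurd (Ideal.mul_mem_right f₀ _ (hqy (hg₁ q (Finset.mem_erase.2
              ⟨hqp, (Set.Finite.mem_toFinset _).2 hq⟩)))) hyg
        rw [← Ideal.mk_ker (I := p), ← range_comap_of_surjective _ _ Ideal.Quotient.mk_surjective] at hy
        obtain ⟨z, rfl⟩ := hy
        exact ⟨z, hyg, rfl⟩
    let Z' : Closeds (PrimeSpectrum A₀) :=
      ⟨(Z : Set (PrimeSpectrum A₀)) \ PrimeSpectrum.basicOpen g, Z.isClosed.sdiff (PrimeSpectrum.basicOpen g).isOpen⟩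
    have hlt : Z' < Z := by
      refine lt_of_le_of_ne (fun y hy => hy.1) fun e => ?_
      have hpZ : (⟨p, hp.1.1⟩ : PrimeSpectrum A₀) ∈ (Z : Set (PrimeSpectrum A₀)) := by
        rw [hI]; exact hp.1.2
      have h2 : (⟨p, hp.1.1⟩ : PrimeSpectrum A₀) ∈ (Z' : Set (PrimeSpectrum A₀)) := e ▸ hpZ
      exact h2.2 hg
    obtain ⟨m, A, hA, hA', himm, hdis, hcov, hord, hfl⟩ := ih Z' hlt
    let A' : Fin (m + 1) → Type u := Fin.cons (α := fun _ => Type u) L A
    let cL : CommRing L := inferInstance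
    let aL : Algebra A₀ L := inferInstance
    let iR : ∀ i, CommRing (A' i) := Fin.cons (α := fun i => CommRing (A' i)) cL hA
    letI := iR
    let iA : ∀ i, Algebra A₀ (A' i) := Fin.cons (α := fun i => Algebra A₀ (A' i)) aL hA'
    letI := iA
    have hsub : ∀ j, Set.range (PrimeSpectrum.comap (algebraMap A₀ (A j))) ⊆ (Z' : Set (PrimeSpectrum A₀)) :=
      fun j => hcov ▸ Set.subset_iUnion (fun i => Set.range (PrimeSpectrum.comap (algebraMap A₀ (A i)))) j
    have hd0 : ∀ j, Disjoint (Set.range (PrimeSpectrum.comap (algebraMap A₀ L)))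
        (Set.range (PrimeSpectrum.comap (algebraMap A₀ (A j)))) := fun j => by
      rw [Set.disjoint_left]
      intro y hy hy'
      rw [hrange] at hy
      exact (hsub j hy').2 hy.1
    have hRL : ∀ i, Set.range (PrimeSpectrum.comap (algebraMap A₀ (A' i))) =
        Fin.cons (α := fun _ => Set (PrimeSpectrum A₀)) (Set.range (PrimeSpectrum.comap (algebraMap A₀ L)))
          (fun j => Set.range (PrimeSpectrum.comap (algebraMap A₀ (A j)))) i := fun i => by
      refine Fin.cases ?_ (fun j => ?_) i <;> rfl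
    refine ⟨m + 1, A', iR, iA, ?_, ?_, ?_, ?_, ?_⟩
    · refine Fin.cases ?_ himm
      show IsImmersion (Spec.map (CommRingCat.ofHom (algebraMap A₀ L)))
      have h1 : IsClosedImmersion (Spec.map (CommRingCat.ofHom (Ideal.Quotient.mk p))) :=
        IsClosedImmersion.spec_of_surjective _ Ideal.Quotient.mk_surjective
      have h2 : IsOpenImmersion (Spec.map (CommRingCat.ofHom (algebraMap (A₀ ⧸ p) L))) :=
        IsOpenImmersion.of_isLocalization (Ideal.Quotient.mk p g)
      rw [IsScalarTower.algebraMap_eq A₀ (A₀ ⧸ p) L, CommRingCat.ofHom_comp, Spec.map_comp]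
      have := h1
      have := h2
      show IsImmersion (Spec.map (CommRingCat.ofHom (algebraMap (A₀ ⧸ p) L)) ≫
        Spec.map (CommRingCat.ofHom (Ideal.Quotient.mk p)))
      infer_instance
    · refine Fin.cases (fun j => ?_) (fun i => Fin.cases (fun _ => (hd0 i).symm) fun j h => hdis i j fun e => h (by rw [e]))
      exact Fin.cases (fun h => absurd rfl h) (fun j _ => hd0 j) j
    · rw [show (⋃ i, Set.range (PrimeSpectrum.comap (algebraMap A₀ (A' i)))) =
          Set.range (PrimeSpectrum.comap (algebraMap A₀ L)) ∪ ⋃ j, Set.range (PrimeSpectrum.comap (algebraMap A₀ (A j))) from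
        Set.ext fun y => by simp only [Set.mem_iUnion, Set.mem_union, hRL, Fin.exists_fin_succ, Fin.cons_zero, Fin.cons_succ]]
      rw [hcov, hrange]
      show _ ∪ ((Z : Set (PrimeSpectrum A₀)) \ PrimeSpectrum.basicOpen g) = _
      rw [Set.inter_comm, Set.inter_union_sdiff]
    · refine Fin.cases ?_ (fun j => ?_)
      swap
      · obtain ⟨U, hU, hUj⟩ := hord j
        refine ⟨U, hU, ?_⟩
        show _ = Set.range (PrimeSpectrum.comap (algebraMap A₀ (A j)))
        rw [← hUj]
        ext y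
        simp only [Set.mem_inter_iff, Set.mem_iUnion, hRL, Fin.exists_fin_succ, Fin.cons_zero, Fin.cons_succ,
          Fin.succ_le_succ_iff, exists_prop, Fin.le_zero_iff, Fin.succ_ne_zero, false_and, false_or]
      refine ⟨PrimeSpectrum.basicOpen g, (PrimeSpectrum.basicOpen g).isOpen, ?_⟩
      show _ = Set.range (PrimeSpectrum.comap (algebraMap A₀ L))
      ext y
      simp only [Set.mem_inter_iff, Set.mem_iUnion, hRL, Fin.exists_fin_succ, Fin.cons_zero, Fin.cons_succ,
        Fin.zero_le, exists_prop, true_and]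
      refine ⟨?_, fun hy => ⟨(hrange.le hy).1, Or.inl hy⟩⟩
      rintro ⟨hyg, hy | ⟨j, hy⟩⟩
      · exact hy
      · exact absurd hyg (hsub j hy).2
    · refine Fin.cases ?_ hfl
      exact hflat g (Dvd.intro_left g₁ rfl)

end Groth.Agent.H06GrStrat
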