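import Groth.Agent.H8Props.GenericFlatClosed.Algebra
import Mathlib

/-!
# Flatness of the graded pieces of an adic filtration over one stratum
-/

set_option autoImplicit false
set_option linter.style.haveILetI false
set_option maxHeartbeats 800000
universe u

open TensorProduct

namespace Groth.Agent.H06GrStrat

/-- Localised pieces of a flat-after-inverting-`f` filtration are flat. -/
theorem flat_piece {A L M N : Type u} [CommRing A] [CommRing L] [Algebra A L] [AddCommGroup M] [AddCommGroup N]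
    [Module A M] [Module A N] [Module L N] [IsScalarTower A L N] {f : A} [IsLocalization.Away f L]
    (φ : M →ₗ[A] N) [IsLocalizedModule (Submonoid.powers f) φ] (W W' : Submodule A M)
    (h : H13Flat.KillsKer f (W ⧸ W'.comap W.subtype)) :
    Module.Flat L ↥(Submodule.map (Submodule.span L (φ '' (W' : Set M))).mkQ
      (Submodule.span L (φ '' (W : Set M)))) := by
  set P := Submodule.span L (φ '' (W : Set M))
  set P' := Submodule.span L (φ '' (W' : Set M))
  set Q := Submodule.map P'.mkQ P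
  have hdenom : ∀ (V : Submodule A M), ∀ z ∈ Submodule.span L (φ '' (V : Set M)),
      ∃ (s : Submonoid.powers f) (x : M), x ∈ V ∧ s • z = φ x := by
    intro V z hz
    induction hz using Submodule.span_induction with
    | mem z hz => obtain ⟨x, hx, rfl⟩ := hz; exact ⟨1, x, hx, one_smul _ _⟩
    | zero => exact ⟨1, 0, zero_mem _, by rw [map_zero, smul_zero]⟩
    | add a b _ _ ha hb =>
      obtain ⟨s, x, hx, hs⟩ := ha
      obtain ⟨t, y, hy, ht⟩ := hb
      refine ⟨s * t, (t : A) • x + (s : A) • y, add_mem (V.smul_mem _ hx) (V.smul_mem _ hy), ?_⟩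
      rw [smul_add, map_add, map_smul, map_smul, ← hs, ← ht, Submonoid.smul_def, Submonoid.smul_def,
        Submonoid.smul_def, Submonoid.smul_def, smul_smul, smul_smul, Submonoid.coe_mul, mul_comm (t : A)]
    | smul c z _ hz =>
      obtain ⟨s, x, hx, hs⟩ := hz
      obtain ⟨⟨r, t⟩, hc⟩ := IsLocalization.surj (Submonoid.powers f) c
      refine ⟨t * s, r • x, V.smul_mem _ hx, ?_⟩
      rw [map_smul, ← hs, Submonoid.smul_def, Submonoid.smul_def, Submonoid.coe_mul,
        ← algebraMap_smul L r, ← algebraMap_smul L ((t : A) * (s : A)), ← algebraMap_smul L (s : A),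
        smul_smul, smul_smul, map_mul, ← hc]
      congr 1
      ring
  let ψ₀ : W →ₗ[A] Q :=
    { toFun := fun w => ⟨P'.mkQ (φ w.1), Submodule.mem_map_of_mem (Submodule.subset_span ⟨w.1, w.2, rfl⟩)⟩
      map_add' := fun a b => Subtype.ext (by simp)
      map_smul' := fun r a => Subtype.ext (by
        show P'.mkQ (φ (r • a.1)) = r • P'.mkQ (φ a.1)
        rw [map_smul, LinearMap.map_smul_of_tower]) }
  let ψ : (W ⧸ W'.comap W.subtype) →ₗ[A] Q := Submodule.liftQ _ ψ₀ fun w hw =>
    Subtype.ext ((Submodule.Quotient.mk_eq_zero P').2 (Submodule.subset_span ⟨w.1, hw, rfl⟩))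
  haveI : IsLocalizedModule (Submonoid.powers f) ψ := by
    constructor
    · intro s
      have hu : IsUnit (algebraMap A L s.1) := IsLocalization.map_units L s
      rw [Module.End.isUnit_iff]
      have e : ⇑(algebraMap A (Module.End A Q) s.1) = fun x : Q => algebraMap A L s.1 • x := by
        funext x
        rw [Module.algebraMap_end_apply, algebraMap_smul]
      rw [e]
      exact hu.smul_bijective
    · rintro ⟨q, hq⟩
      obtain ⟨z, hz, rfl⟩ := Submodule.mem_map.1 hq
      obtain ⟨s, x, hx, hs⟩ := hdenom W z hz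
      refine ⟨⟨Submodule.Quotient.mk ⟨x, hx⟩, s⟩, Subtype.ext ?_⟩
      show (s : A) • P'.mkQ z = P'.mkQ (φ x)
      rw [← hs, Submonoid.smul_def, LinearMap.map_smul_of_tower]
    · intro x₁ x₂ hx
      obtain ⟨w₁, rfl⟩ := Submodule.Quotient.mk_surjective _ x₁
      obtain ⟨w₂, rfl⟩ := Submodule.Quotient.mk_surjective _ x₂
      have h0 : φ (w₁.1 - w₂.1) ∈ P' := by
        rw [map_sub]
        exact (Submodule.Quotient.eq P').1 (congrArg Subtype.val hx)
      obtain ⟨s, y, hy, hs⟩ := hdenom W' _ h0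
      rw [Submonoid.smul_def, ← map_smul] at hs
      obtain ⟨t, ht⟩ := IsLocalizedModule.exists_of_eq (S := Submonoid.powers f) (f := φ) hs
      refine ⟨t * s, (Submodule.Quotient.eq _).2 ?_⟩
      show ((t : A) * s) • w₁.1 - ((t : A) * s) • w₂.1 ∈ W'
      rw [← smul_sub, mul_smul]
      rw [Submonoid.smul_def, Submonoid.smul_def] at ht
      rw [ht]
      exact W'.smul_mem _ hy
  have hflat : Module.Flat A Q :=
    haveI := h.flat_localizedModule
    Module.Flat.of_linearEquiv (IsLocalizedModule.iso (Submonoid.powers f) ψ).symm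
  exact (Module.flat_iff_of_isLocalization L (Submonoid.powers f) Q).2 hflat

/-- Over a suitable localisation of `A₀ / p` the pieces of the filtration are flat. -/
theorem exists_flat_pieces {A₀ : Type u} [CommRing A₀] [IsNoetherianRing A₀] (p : Ideal A₀) [p.IsPrime]
    {B₀ : Type u} [CommRing B₀] [Algebra A₀ B₀] [Algebra.FiniteType A₀ B₀] (J₀ : Ideal B₀)
    (M₀ : Type u) [AddCommGroup M₀] [Module B₀ M₀] [Module A₀ M₀] [IsScalarTower A₀ B₀ M₀]
    [Module.Finite B₀ M₀] :
    ∃ f₀ : A₀, f₀ ∉ p ∧ ∀ g : A₀, f₀ ∣ g →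
      ∀ (n : ℕ), Module.Flat (Localization.Away (Ideal.Quotient.mk p g))
        ↥(Submodule.map
            (LinearMap.range (LinearMap.baseChange (Localization.Away (Ideal.Quotient.mk p g))
              ((J₀ ^ (n + 1) • (⊤ : Submodule B₀ M₀)).restrictScalars A₀).subtype)).mkQ
            (LinearMap.range (LinearMap.baseChange (Localization.Away (Ideal.Quotient.mk p g))
              ((J₀ ^ n • (⊤ : Submodule B₀ M₀)).restrictScalars A₀).subtype))) := by
  let p' := p.map (algebraMap A₀ B₀)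
  let M' := M₀ ⧸ (p' • ⊤ : Submodule B₀ M₀)
  letI : Module (A₀ ⧸ p) M' := Module.compHom M' (algebraMap (A₀ ⧸ p) (B₀ ⧸ p'))
  haveI : IsScalarTower (A₀ ⧸ p) (B₀ ⧸ p') M' := .of_algebraMap_smul fun _ _ => rfl
  haveI : IsScalarTower A₀ (A₀ ⧸ p) M' := .of_algebraMap_smul fun a x => by
    obtain ⟨m, rfl⟩ := Submodule.Quotient.mk_surjective _ x
    show Ideal.Quotient.mk p' (algebraMap A₀ B₀ a) • (Submodule.Quotient.mk m : M') = _
    rw [show Ideal.Quotient.mk p' (algebraMap A₀ B₀ a) • (Submodule.Quotient.mk m : M') =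
      Submodule.Quotient.mk (algebraMap A₀ B₀ a • m) from rfl, algebraMap_smul]
    rfl
  haveI : Algebra.FiniteType (A₀ ⧸ p) (B₀ ⧸ p') := Algebra.FiniteType.of_restrictScalars_finiteType A₀ _ _
  haveI : IsNoetherianRing B₀ := Algebra.FiniteType.isNoetherianRing A₀ B₀
  let J := J₀.map (Ideal.Quotient.mk p')
  haveI : Module.Finite (B₀ ⧸ p') M' := Module.Finite.of_restrictScalars_finite B₀ _ _
  haveI : Algebra.FiniteType (A₀ ⧸ p) ((B₀ ⧸ p') ⧸ J) := Algebra.FiniteType.trans (S := B₀ ⧸ p') inferInstance inferInstance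
  obtain ⟨f, hf, hk⟩ := H8Props.GenericFlatClosed.exists_killsKer_gr (A := A₀ ⧸ p) (M := M') J
  obtain ⟨f₀, rfl⟩ := Ideal.Quotient.mk_surjective f
  refine ⟨f₀, fun h => hf (Ideal.Quotient.eq_zero_iff_mem.2 h), fun g hg n => ?_⟩
  let L := Localization.Away (Ideal.Quotient.mk p g)
  have hp' : (p' • ⊤ : Submodule B₀ M₀).restrictScalars A₀ = p • (⊤ : Submodule A₀ M₀) := by
    rw [Ideal.smul_restrictScalars, Submodule.restrictScalars_top]
  let mk' : M₀ →ₗ[A₀] M' := (p' • ⊤ : Submodule B₀ M₀).mkQ.restrictScalars A₀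
  have hbc : IsBaseChange (A₀ ⧸ p) mk' :=
    IsBaseChange.of_equiv ((TensorProduct.quotTensorEquivQuotSMul M₀ p ≪≫ₗ
        (Submodule.quotEquivOfEq _ _ hp'.symm ≪≫ₗ
          Submodule.Quotient.restrictScalarsEquiv A₀ (p' • ⊤ : Submodule B₀ M₀))).extendScalarsOfSurjective
      Ideal.Quotient.mk_surjective) fun x => by
      show (Submodule.Quotient.restrictScalarsEquiv A₀ _ (Submodule.quotEquivOfEq _ _ hp'.symm
        (TensorProduct.quotTensorEquivQuotSMul M₀ p ((Ideal.Quotient.mk p 1) ⊗ₜ x)))) = _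
      rw [TensorProduct.quotTensorEquivQuotSMul_mk_tmul, one_smul]
      rfl
  let i := TensorProduct.mk A₀ L M₀ 1
  let φ : M' →ₗ[A₀ ⧸ p] L ⊗[A₀] M₀ := hbc.lift i
  have hφ : ∀ m : M₀, φ (mk' m) = (1 : L) ⊗ₜ m := fun m => hbc.lift_eq i m
  haveI : IsLocalizedModule (Submonoid.powers (Ideal.Quotient.mk p g)) φ := by
    rw [isLocalizedModule_iff_isBaseChange _ L]
    refine hbc.of_comp ?_
    rw [show (φ : M' →ₗ[A₀] L ⊗[A₀] M₀) ∘ₗ mk' = i from LinearMap.ext hφ]
    exact TensorProduct.isBaseChange A₀ M₀ L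
  let W := fun k : ℕ => (J ^ k • (⊤ : Submodule (B₀ ⧸ p') M')).restrictScalars (A₀ ⧸ p)
  have hW : ∀ k, (W k : Set M') = mk' '' ((J₀ ^ k • ⊤ : Submodule B₀ M₀) : Set M₀) := by
    intro k
    have e : (J ^ k • (⊤ : Submodule (B₀ ⧸ p') M')).restrictScalars B₀ =
        (J₀ ^ k • ⊤ : Submodule B₀ M₀).map (p' • ⊤ : Submodule B₀ M₀).mkQ := by
      rw [Submodule.map_smul'', Submodule.map_top, Submodule.range_mkQ, ← Submodule.restrictScalars_top (S := B₀)
        (R := B₀ ⧸ p') (M := M'), ← Ideal.smul_restrictScalars, Ideal.map_pow]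
      rfl
    exact congrArg (fun V : Submodule B₀ M' => (V : Set M')) e
  have hspan : ∀ k, Submodule.span L (φ '' (W k : Set M')) =
      LinearMap.range (LinearMap.baseChange L ((J₀ ^ k • (⊤ : Submodule B₀ M₀)).restrictScalars A₀).subtype) := by
    intro k
    rw [hW, ← Set.image_comp, show (⇑φ ∘ ⇑mk') = fun m => (1 : L) ⊗ₜ[A₀] m from funext hφ]
    refine le_antisymm (Submodule.span_le.2 ?_) ?_
    · rintro _ ⟨m, hm, rfl⟩
      exact ⟨1 ⊗ₜ ⟨m, hm⟩, rfl⟩
    · rintro _ ⟨z, rfl⟩
      induction z using TensorProduct.induction_on with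
      | zero => rw [map_zero]; exact zero_mem _
      | add a b ha hb => rw [map_add]; exact add_mem ha hb
      | tmul c w =>
        rw [LinearMap.baseChange_tmul, show c ⊗ₜ[A₀] _ = c • ((1 : L) ⊗ₜ[A₀] w.1) by
          rw [smul_tmul', smul_eq_mul, mul_one]; rfl]
        exact Submodule.smul_mem _ _ (Submodule.subset_span ⟨w.1, w.2, rfl⟩)
  show Module.Flat L _
  rw [← hspan n, ← hspan (n + 1)]
  exact flat_piece φ (W n) (W (n + 1)) (((hk n).of_dvd (map_dvd (Ideal.Quotient.mk p) hg)).of_linearEquiv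
    (LinearEquiv.refl _ _))

end Groth.Agent.H06GrStrat
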